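import Groth.Agent.H8Props.FieldDimScheme
import Groth.Agent.H13CInt.FibreDim
import Groth.Agent.H05EGA4.Topo
import Groth.Agent.H06EGA9.ProductDim

/-!
# Points of maximal fibres have stalks of dimension at most the dimension of the image
-/

universe u

open CategoryTheory AlgebraicGeometry TopologicalSpace Topology IsLocalRing
open Groth.Agent.H8Props

namespace Groth.Agent.H17.DimImage

theorem exists_open_closure_inter {T : Type*} [TopologicalSpace T] {s : Set T} (hs : IsConstructible s) {y : T}
    (hy : y ∈ s) : ∃ U : Set T, IsOpen U ∧ y ∈ U ∧ closure {y} ∩ U ⊆ s := by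
  suffices h : (y ∈ s → ∃ U : Set T, IsOpen U ∧ y ∈ U ∧ closure {y} ∩ U ⊆ s) ∧
      (y ∉ s → ∃ U : Set T, IsOpen U ∧ y ∈ U ∧ closure {y} ∩ U ⊆ sᶜ) from h.1 hy
  clear hy
  induction hs using IsConstructible.empty_union_induction with
  | open_retrocompact U hU hU' =>
    exact ⟨fun h => ⟨U, hU, h, Set.inter_subset_right⟩, fun h => ⟨Set.univ, isOpen_univ, trivial,
      Set.inter_subset_left.trans (closure_minimal (Set.singleton_subset_iff.2 h) hU.isClosed_compl)⟩⟩
  | union s hs t ht hs' ht' =>
    refine ⟨fun h => ?_, fun h => ?_⟩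
    · rcases h with h | h
      · obtain ⟨U, h1, h2, h3⟩ := hs'.1 h
        exact ⟨U, h1, h2, h3.trans Set.subset_union_left⟩
      · obtain ⟨U, h1, h2, h3⟩ := ht'.1 h
        exact ⟨U, h1, h2, h3.trans Set.subset_union_right⟩
    · obtain ⟨U, h1, h2, h3⟩ := hs'.2 fun a => h (Or.inl a)
      obtain ⟨V, k1, k2, k3⟩ := ht'.2 fun a => h (Or.inr a)
      refine ⟨U ∩ V, h1.inter k1, ⟨h2, k2⟩, fun z hz hz' => ?_⟩
      rcases hz' with hz' | hz'
      · exact h3 ⟨hz.1, hz.2.1⟩ hz'
      · exact k3 ⟨hz.1, hz.2.2⟩ hz'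
  | compl s hs hs' =>
    refine ⟨hs'.2, fun h => ?_⟩
    simpa only [compl_compl] using hs'.1 (Set.notMem_compl_iff.1 h)

variable {k : Type u} [Field k] {S X : Scheme.{u}}

theorem dim_closure_range_le (qX : X ⟶ Spec (CommRingCat.of k)) [LocallyOfFiniteType qX] [CompactSpace X]
    [QuasiSeparatedSpace X] (f : S ⟶ X) [LocallyOfFinitePresentation f] [QuasiCompact f] :
    topologicalKrullDim (closure (Set.range f.base)) ≤ topologicalKrullDim (Set.range f.base) := by
  haveI : QuasiSober (closure (Set.range f.base)) := isClosed_closure.isClosedEmbedding_subtypeVal.quasiSober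
  rw [FieldDim.dim_eq_iSup_cdim]
  refine iSup_le fun y => ?_
  rw [H06EGA9.cdim_subtype isClosed_closure]
  obtain ⟨s, hs⟩ := H05EGA4.exists_specializes_of_mem_closure_range f y.2
  refine le_trans (FieldDim.dim_mono (closure_minimal (Set.singleton_subset_iff.2 (specializes_iff_mem_closure.1 hs)) isClosed_closure)) ?_
  have hc : IsConstructible (Set.range f.base) := by
    rw [← Set.image_univ]
    exact f.isConstructible_image (X := S) IsConstructible.univ
  obtain ⟨U, hU, hyU, hsub⟩ := exists_open_closure_inter hc (Set.mem_range_self s)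
  obtain ⟨V, hV, hyV, hVU⟩ := exists_isAffineOpen_mem_and_subset (U := ⟨U, hU⟩) (x := f.base s) hyU
  refine le_of_eq_of_le (FieldDim.cdim_eq_inter qX (f.base s) hV hyV) (FieldDim.dim_mono ?_)
  exact fun z hz => hsub ⟨hz.1, hVU hz.2⟩

theorem ringKrullDim_stalk_le [IsLocallyNoetherian X] [IsLocallyNoetherian S] (f : S ⟶ X) (s : S)
    (hmax : ∀ t : S, t ⤳ s → f.base t = f.base s → t = s) :
    ringKrullDim (S.presheaf.stalk s) ≤ topologicalKrullDim (closure (Set.range f.base)) := by
  set φ := (f.stalkMap s).hom with hφ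
  let A := X.presheaf.stalk (f.base s) ⧸ RingHom.ker φ
  let ψ : A →+* S.presheaf.stalk s := RingHom.kerLift φ
  haveI : Nontrivial A := Ideal.Quotient.nontrivial_iff.mpr (RingHom.ker_ne_top φ)
  haveI : IsLocalRing A := .of_surjective' _ Ideal.Quotient.mk_surjective
  letI : Algebra A (S.presheaf.stalk s) := ψ.toAlgebra
  haveI : IsLocalHom (algebraMap A (S.presheaf.stalk s)) := ⟨fun a ha => by
    obtain ⟨b, rfl⟩ := Ideal.Quotient.mk_surjective a
    exact (isUnit_of_map_unit φ b ha).map _⟩
  have h1 := H13CInt.ringKrullDim_le_add A (S.presheaf.stalk s)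
  have h0 : ringKrullDim (S.presheaf.stalk s ⧸ (maximalIdeal A).map (algebraMap A (S.presheaf.stalk s))) ≤ 0 := by
    haveI : Ring.KrullDimLE 0 (S.presheaf.stalk s ⧸ (maximalIdeal A).map (algebraMap A (S.presheaf.stalk s))) := by
      refine Ring.KrullDimLE.mk₀ fun I hI => ?_
      have hp : (I.comap (Ideal.Quotient.mk _)) = maximalIdeal (S.presheaf.stalk s) := by
        have hle : (maximalIdeal A).map (algebraMap A (S.presheaf.stalk s)) ≤ I.comap (Ideal.Quotient.mk _) := fun z hz => by
          rw [Ideal.mem_comap, Ideal.Quotient.eq_zero_iff_mem.2 hz]; exact zero_mem _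
        let q : Spec (S.presheaf.stalk s) := ⟨I.comap (Ideal.Quotient.mk _), inferInstance⟩
        have hfq : (Spec.map (f.stalkMap s)).base q = closedPoint (X.presheaf.stalk (f.base s)) := by
          apply PrimeSpectrum.ext
          refine ((maximalIdeal.isMaximal _).eq_of_le (Ideal.IsPrime.ne_top inferInstance) fun z hz => ?_).symm
          refine hle (Ideal.mem_map_of_mem _ (x := Ideal.Quotient.mk _ z) ?_)
          intro hu
          exact hz ((isUnit_map_iff φ z).1 (hu.map ψ))
        have ht : f.base ((S.fromSpecStalk s).base q) = f.base s := by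
          rw [← Scheme.Hom.comp_apply, ← Scheme.SpecMap_stalkMap_fromSpecStalk, Scheme.Hom.comp_apply]
          erw [hfq]
          exact Scheme.fromSpecStalk_closedPoint
        have hts := hmax _ (Scheme.range_fromSpecStalk.subset ⟨q, rfl⟩) ht
        have : q = closedPoint (S.presheaf.stalk s) :=
          (S.fromSpecStalk s).isEmbedding.injective (hts.trans Scheme.fromSpecStalk_closedPoint.symm)
        exact congrArg PrimeSpectrum.asIdeal this
      have : (I.comap (Ideal.Quotient.mk _)).IsMaximal := hp ▸ maximalIdeal.isMaximal _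
      rw [← Ideal.map_comap_of_surjective _ Ideal.Quotient.mk_surjective I]
      exact (Ideal.IsMaximal.map_of_surjective_of_ker_le (m := I.comap (Ideal.Quotient.mk _)) Ideal.Quotient.mk_surjective (fun z hz => by
        rw [Ideal.mem_comap, (RingHom.mem_ker).1 hz]; exact zero_mem _))
    exact (Ring.krullDimLE_iff).1 this
  refine (h1.trans (add_le_add le_rfl h0)).trans ?_
  rw [add_zero, ← PrimeSpectrum.topologicalKrullDim_eq_ringKrullDim A]
  let ι : PrimeSpectrum A → X := (X.fromSpecStalk (f.base s)).base ∘ PrimeSpectrum.comap (Ideal.Quotient.mk (RingHom.ker φ))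
  have hι : IsEmbedding ι := (X.fromSpecStalk (f.base s)).isEmbedding.comp
    (PrimeSpectrum.isClosedEmbedding_comap_of_surjective _ _ Ideal.Quotient.mk_surjective).isEmbedding
  rw [← FieldDim.dim_range hι]
  refine FieldDim.dim_mono ?_
  rintro _ ⟨p, rfl⟩
  have hdense : DenseRange (PrimeSpectrum.comap ψ) :=
    (PrimeSpectrum.denseRange_comap_iff_ker_le_nilRadical ψ).2 (by
      rw [(RingHom.injective_iff_ker_eq_bot ψ).1 (RingHom.kerLift_injective φ)]; exact bot_le)
  refine map_mem_closure hι.continuous (hdense p) ?_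
  rintro _ ⟨q, rfl⟩
  refine ⟨(S.fromSpecStalk s).base q, ?_⟩
  rw [← Scheme.Hom.comp_apply, ← Scheme.SpecMap_stalkMap_fromSpecStalk, Scheme.Hom.comp_apply]
  refine congrArg (X.fromSpecStalk (f.base s)).base (PrimeSpectrum.ext ?_)
  rfl

end Groth.Agent.H17.DimImage
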